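import Groth.Agent.Lib.NormGenOne9.Ring
import Groth.Agent.Lib.GorGenusOne16.Main
import Groth.Agent.Lib.SubCurve16.Gen
import Groth.Agent.Lib.Semiample.Criterion
import Groth.Agent.Lib.Euler.AmpleIff
import Groth.Agent.Lib.AffLocus9.Basic
import Groth.Agent.Lib.CurveMult.GenusZero
import Groth.Agent.Lib.CurveMult.H1Bound
import Groth.Agent.Lib.QCoh.Extension
import Groth.Agent.Lib.FMod7.Algz
import Groth.Agent.Lib.MulSec9.Main
import Mathlib.RingTheory.Ideal.Quotient.Basic

/-!
# Normal generation in degree at least three on integral curves of genus one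
-/

set_option autoImplicit false
set_option linter.all false
set_option backward.isDefEq.respectTransparency false
set_option maxHeartbeats 2000000

universe u

open CategoryTheory CategoryTheory.Limits AlgebraicGeometry TopologicalSpace Opposite
open GrothLib.Ample (Cocycle res)
open GrothLib.QCoh (stalkLin)

noncomputable section

namespace GrothLib.NormGenOne9

variable {X : Scheme.{u}} (k : Type u) [Field k] [X.Over (Spec (CommRingCat.of k))]
  [IsIntegral X] [IsProper (X ↘ Spec (CommRingCat.of k))] (c : Cocycle X)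

/-- The constants on an open. -/
def constHom (U : X.Opens) : k →+* Γ(X, U) :=
  (res (le_top : U ≤ ⊤)).comp (Coh.toGlobal (X ↘ Spec (CommRingCat.of k)))

/-- Sections as cohomology classes. -/
abbrev H (n : ℕ) := Coh.HH X (c.twist n) 0

/-- The identification with families. -/
def ev (n : ℕ) : H c n ≃+ c.sect n ⊤ := ProjCoh.H0top (c.twist n)

theorem ev_smul (n : ℕ) (a : k) (z : H c n) :
    ev c n (a • z) = (show Γ(X, ⊤) from Coh.toGlobal (X ↘ Spec (CommRingCat.of k)) a) • ev c n z :=
  ProjCoh.H0top_smul (c.twist n) a z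

theorem ev_hhMap {n m : ℕ} (f : c.twist n ⟶ c.twist m) (z : H c n) :
    ev c m (Cohom.hhMap k f 0 z) = (show c.sect m ⊤ from f.app ⊤ (ev c n z)) :=
  ProjCoh.H0top_map ((QCoh.toAbFun _).map f) z

include k in
/-- Over an infinite field one section avoids finitely many points. -/
theorem exists_avoid [Infinite k] (hgg : Curv2.IsGloballyGenerated (c.twist 1)) {P : Set X} (hP : P.Finite) :
    ∃ u : c.sect 1 ⊤, ∀ x ∈ P, x ∈ c.locus u := by
  haveI := Euler.isNoetherian_of_proper (X := X) k
  haveI := Euler.finiteDimensional_HH k (Euler.isCoh_of_isInvertible (c.isInvertible_twist 1)) 0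
  obtain ⟨N, a, ha⟩ := Semiample.exists_sections c hgg
  haveI := hP.to_subtype
  let p : P → Submodule k (H c 1) := fun x =>
    { carrier := {z | x.1 ∉ c.locus (ev c 1 z)}
      zero_mem' := by
        obtain ⟨i, hi⟩ := c.exists_mem x.1
        show x.1 ∉ c.locus (ev c 1 0)
        rw [map_zero, c.mem_locus_iff _ hi, show ((0 : c.sect 1 ⊤).1 i) = 0 from rfl, Scheme.basicOpen_zero]
        exact fun h => h
      add_mem' := fun {y z} hy hz => by
        obtain ⟨i, hi⟩ := c.exists_mem x.1
        show x.1 ∉ c.locus (ev c 1 (y + z))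
        change x.1 ∉ c.locus (ev c 1 y) at hy
        change x.1 ∉ c.locus (ev c 1 z) at hz
        rw [c.mem_locus_iff _ hi, Scheme.mem_basicOpen _ _ _ (show x.1 ∈ (⊤ : X.Opens) ⊓ c.D i from ⟨trivial, hi⟩)] at hy hz ⊢
        rw [map_add, show ((ev c 1 y + ev c 1 z : c.sect 1 ⊤).1 i) = (ev c 1 y).1 i + (ev c 1 z).1 i from rfl, map_add]
        exact (IsLocalRing.mem_maximalIdeal _).1 (Ideal.add_mem _ ((IsLocalRing.mem_maximalIdeal _).2 hy)
          ((IsLocalRing.mem_maximalIdeal _).2 hz))
      smul_mem' := fun r z hz => by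
        obtain ⟨i, hi⟩ := c.exists_mem x.1
        show x.1 ∉ c.locus (ev c 1 (r • z))
        change x.1 ∉ c.locus (ev c 1 z) at hz
        rw [c.mem_locus_iff _ hi, Scheme.mem_basicOpen _ _ _ (show x.1 ∈ (⊤ : X.Opens) ⊓ c.D i from ⟨trivial, hi⟩)] at hz ⊢
        rw [ev_smul, Cocycle.smul_apply, map_mul]
        exact fun h => hz (isUnit_of_mul_isUnit_right h) }
  obtain ⟨z, hz⟩ := Submodule.exists_forall_notMem_of_forall_ne_top p fun x htop => by
    obtain ⟨i, hi⟩ := Opens.mem_iSup.1 (ha.ge (Opens.mem_top x.1))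
    have hmem : (ev c 1).symm (a i) ∈ p x := htop ▸ Submodule.mem_top
    exact hmem (by rw [AddEquiv.apply_symm_apply]; exact hi)
  exact ⟨ev c 1 z, fun x hx => not_not.1 (hz ⟨x, hx⟩)⟩

include k in
/-- A subsheaf with two independent sections has no first cohomology. -/
theorem subsingleton_H1_of_two_sections (hd : topologicalKrullDim X ≤ 1) (hg : Curv2.genus k X ≤ 1)
    {F L : X.Modules} (hF : Coh.IsCoh F) (hL : PicF.IsInvertible L) (m : F ⟶ L) [Mono m]
    (h2 : 2 ≤ Module.finrank k (Coh.HH X F 0)) : Subsingleton (Coh.HH X F 1) := by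
  haveI := Euler.isNoetherian_of_proper (X := X) k
  have hcO : Coh.IsCoh (Coh.structureModule X) := Euler.isCoh_of_isInvertible Euler.isInvertible_structure
  haveI := Euler.finiteDimensional_HH k hcO 1
  haveI := Euler.finiteDimensional_HH k hF 1
  haveI := Euler.finiteDimensional_HH k hF 0
  have hsurj : ∀ s : Γ(F, ⊤), s ≠ 0 → Function.Surjective (Cohom.hhMap k (FinCov.homOfSection s) 1) := by
    intro s hs
    refine SubCurve16.surjective_H1_of_generic k hd _ hcO hF fun η hη _ v => ?_
    have hne : FinCov.homOfSection s ≫ m ≠ 0 := by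
      intro h0
      refine hs ?_
      have hz : FinCov.homOfSection s = 0 := (cancel_mono m).1 (h0.trans zero_comp.symm)
      have e := congrArg (fun g : Coh.structureModule X ⟶ F => g.app ⊤ (FinCov.one X ⊤)) hz
      exact ((FinCov.homOfSection_one s ⊤).trans (LefEt7.presheaf_map_self _ _ _)).symm.trans e
    have hb := Euler.stalkLin_genericPoint_bijective Euler.isInvertible_structure hL hne
    obtain rfl : η = genericPoint X :=
      (FinAff13.mem_genericPoints_iff.1 hη (genericPoint X) (genericPoint_specializes η)).symm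
    obtain ⟨w, hw⟩ := hb.2 (stalkLin m _ v)
    refine ⟨w, QCoh.stalkLin_injective m _ ?_⟩
    rw [← QCoh.stalkLin_comp]
    exact hw
  rw [← not_nontrivial_iff_subsingleton]
  intro hnt
  obtain ⟨e, he⟩ : ∃ e : Coh.HH X (Coh.structureModule X) 1, e ≠ 0 := by
    by_contra h
    push Not at h
    haveI : Subsingleton (Coh.HH X (Coh.structureModule X) 1) := subsingleton_of_forall_eq 0 h
    obtain ⟨z, hz⟩ := Module.finrank_pos_iff_exists_ne_zero.1 (show 0 < Module.finrank k (Coh.HH X F 0) by omega)
    exact not_subsingleton (Coh.HH X F 1) ((hsurj (ProjCoh.H0top F z)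
      fun h => hz ((ProjCoh.H0top F).injective (h.trans (map_zero _).symm))).subsingleton)
  let P : Coh.HH X F 0 →ₗ[k] Coh.HH X F 1 :=
    { toFun := fun z => Cohom.hhMap k (FinCov.homOfSection (ProjCoh.H0top F z)) 1 e
      map_add' := fun z z' => by simp only [map_add, CurveMult.homOfSection_add, CurveMult.hhMap_add']
      map_smul' := fun a z => by
        rw [ProjCoh.H0top_smul, CurveMult.homOfSection_smul, Euler.hhMap_comp]
        rfl }
  have hspan : ∀ w : Coh.HH X (Coh.structureModule X) 1, ∃ a : k, a • e = w := by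
    intro w
    refine (finrank_eq_one_iff_of_nonzero' e he).1 ?_ w
    haveI : Nontrivial (Coh.HH X (Coh.structureModule X) 1) := ⟨e, 0, he⟩
    have hp : 0 < Module.finrank k (Coh.HH X (Coh.structureModule X) 1) := Module.finrank_pos
    have hle : Module.finrank k (Coh.HH X (Coh.structureModule X) 1) ≤ 1 := hg
    omega
  have hinj : Function.Injective P := by
    refine (injective_iff_map_eq_zero P).2 fun z hz => ?_
    by_contra hz0
    obtain ⟨y, hy⟩ := exists_ne (0 : Coh.HH X F 1)
    obtain ⟨w, hw⟩ := hsurj (ProjCoh.H0top F z)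
      (fun h => hz0 ((ProjCoh.H0top F).injective (h.trans (map_zero _).symm))) y
    obtain ⟨a, rfl⟩ := hspan w
    rw [map_smul] at hw
    exact hy (hw.symm.trans (by rw [show Cohom.hhMap k (FinCov.homOfSection (ProjCoh.H0top F z)) 1 e = 0 from hz, smul_zero]))
  have h3 := LinearMap.finrank_le_finrank_of_injective hinj
  obtain ⟨z, hz⟩ := Module.finrank_pos_iff_exists_ne_zero.1 (show 0 < Module.finrank k (Coh.HH X F 0) by omega)
  have h4 := LinearMap.finrank_le_finrank_of_surjective (hsurj (ProjCoh.H0top F z)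
    fun h => hz ((ProjCoh.H0top F).injective (h.trans (map_zero _).symm)))
  have h5 : Module.finrank k (Coh.HH X (Coh.structureModule X) 1) ≤ 1 := hg
  omega

include k in
/-- Sections of degree one and the ideal of two of them span all functions on the locus. -/
theorem exists_lift (hd : topologicalKrullDim X ≤ 1) (hg : Curv2.genus k X ≤ 1)
    (h0 : Module.finrank k (Coh.HH X (Coh.structureModule X) 0) = 1) (t : c.sect 1 ⊤)
    (hU : IsAffineOpen (c.locus t)) (a : Fin 2 → H c 1) (ha : LinearIndependent k a)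
    (hcov : c.locus (ev c 1 (a 0)) ⊔ c.locus t = ⊤) (b : Γ(X, c.locus t)) :
    ∃ (v : c.sect 1 ⊤) (r : Fin 2 → Γ(X, c.locus t)),
      b = phi c t v + ∑ j, r j * phi c t (ev c 1 (a j)) := by
  haveI := Euler.isNoetherian_of_proper (X := X) k
  let U := c.locus t
  let V := c.locus (ev c 1 (a 0))
  let g : (∐ fun _ : Fin 2 => Coh.structureModule X) ⟶ c.twist 1 :=
    Sigma.desc fun j => c.hom (ev c 1 (a j))
  let F := Abelian.image g
  let m : F ⟶ c.twist 1 := Abelian.image.ι g
  let φ : (∐ fun _ : Fin 2 => Coh.structureModule X) ⟶ F := Abelian.factorThruImage g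
  have hφm : φ ≫ m = g := Abelian.image.fac g
  have hcO : Coh.IsCoh (Coh.structureModule X) := Euler.isCoh_of_isInvertible Euler.isInvertible_structure
  have hcS : Coh.IsCoh (∐ fun _ : Fin 2 => Coh.structureModule X) :=
    Euler.isCoh_of_isFinLocFree (OX.isFinLocFree_freeMod X 2)
  have hcL : Coh.IsCoh (c.twist 1) := Euler.isCoh_of_isInvertible (c.isInvertible_twist 1)
  have hcF : Coh.IsCoh F := FMod7.isCoh_image hcS hcL g
  have hcC : Coh.IsCoh (cokernel g) := QCoh.isCoh_cokernel g hcS hcL
  haveI := Euler.finiteDimensional_HH k hcF 0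
  have h2 : 2 ≤ Module.finrank k (Coh.HH X F 0) := by
    let z₀ : Coh.HH X (Coh.structureModule X) 0 :=
      (ProjCoh.H0top (Coh.structureModule X)).symm (show Γ(Coh.structureModule X, ⊤) from (1 : Γ(X, ⊤)))
    let x : Fin 2 → Coh.HH X F 0 := fun j =>
      Cohom.hhMap k (Sigma.ι (fun _ : Fin 2 => Coh.structureModule X) j ≫ φ) 0 z₀
    have hx : ∀ j, Cohom.hhMap k m 0 (x j) = a j := by
      intro j
      show Cohom.hhMap k m 0 (Cohom.hhMap k _ 0 z₀) = _
      rw [← Euler.hhMap_comp, Category.assoc, hφm, Sigma.ι_desc]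
      refine (ProjCoh.H0top (c.twist 1)).injective ?_
      refine (ProjCoh.H0top_map ((QCoh.toAbFun _).map (c.hom (ev c 1 (a j)))) z₀).trans ?_
      erw [AddEquiv.apply_symm_apply]
      refine (c.hom_app_one (ev c 1 (a j)) ⊤).trans ?_
      exact c.sect_ext fun i => GrothLib.Ample.res_self _ _
    have hli : LinearIndependent k x := by
      refine LinearIndependent.of_comp (Cohom.hhMap k m 0) ?_
      have : (Cohom.hhMap k m 0) ∘ x = a := funext hx
      rwa [this]
    simpa using hli.fintype_card_le_finrank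
  have hF1 := subsingleton_H1_of_two_sections k hd hg hcF (c.isInvertible_twist 1) m h2
  let π := cokernel.π g
  let S := ShortComplex.mk m π (kernel.condition π)
  have hS : S.ShortExact :=
    { exact := ShortComplex.exact_of_f_is_kernel _ (kernelIsKernel π) }
  have hzero : ∀ W : X.Opens, W ≤ V → ∀ s : Γ(cokernel g, W), s = 0 := by
    intro W hW s
    refine QCoh.section_eq_zero_of_germ _ s fun y hy => ?_
    refine @Subsingleton.elim _ (QCoh.stalk_subsingleton_of_notMem
      (QCoh.notMem_support_cokernel_of_surjective g fun w => ?_)) _ _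
    obtain ⟨w', hw'⟩ := (Euler.stalkLin_bijective_of_app_bijective (c.hom (ev c 1 (a 0))) (hW hy)
      fun W' hW' => c.bijective_hom_app _ hW').2 w
    refine ⟨stalkLin (Sigma.ι (fun _ : Fin 2 => Coh.structureModule X) 0) y w', ?_⟩
    rw [← QCoh.stalkLin_comp, Sigma.ι_desc]
    exact hw'
  let bt : c.sect 1 U := b • c.sectRes (le_top : U ≤ ⊤) (pw c t 1)
  obtain ⟨cc, hcc⟩ : ∃ cc : Γ(cokernel g, ⊤),
      (cokernel g).presheaf.map (homOfLE (le_top : U ≤ ⊤)).op cc = π.app U (show Γ(c.twist 1, U) from bt) := by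
    let O : Bool → X.Opens := fun q => if q then U else V
    let sf : ∀ q : Bool, Γ(cokernel g, O q) := fun q => match q with
      | true => π.app U (show Γ(c.twist 1, U) from bt)
      | false => 0
    obtain ⟨cc, hcc, -⟩ := TopCat.Sheaf.existsUnique_gluing' ⟨(cokernel g).presheaf, (cokernel g).isSheaf⟩ O ⊤
      (fun q => homOfLE le_top) (fun y hy => by
        rcases (show y ∈ V ⊔ U from hcov ▸ trivial) with h | h
        · exact Opens.mem_iSup.2 ⟨false, h⟩
        · exact Opens.mem_iSup.2 ⟨true, h⟩) sf (by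
        intro p q
        cases p <;> cases q
        · exact (hzero _ inf_le_left _).trans (hzero _ inf_le_left _).symm
        · exact (hzero _ inf_le_left _).trans (hzero _ inf_le_left _).symm
        · exact (hzero _ inf_le_right _).trans (hzero _ inf_le_right _).symm
        · rfl)
    exact ⟨cc, hcc true⟩
  obtain ⟨v', hv'⟩ := (Cohom.exact₃ (A := k) hS 0 ((ProjCoh.H0top (cokernel g)).symm cc)).1
    (@Subsingleton.elim _ hF1 _ _)
  let v : c.sect 1 ⊤ := ProjCoh.H0top (c.twist 1) v'
  have hv : π.app ⊤ (show Γ(c.twist 1, ⊤) from v) = cc := by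
    have h := congrArg (ProjCoh.H0top (cokernel g)) hv'
    rw [AddEquiv.apply_symm_apply] at h
    exact (ProjCoh.H0top_map ((QCoh.toAbFun _).map π) v').symm.trans h
  have hker : π.app U (show Γ(c.twist 1, U) from bt - c.sectRes (le_top : U ≤ ⊤) v) = 0 := by
    refine (map_sub (π.app U).hom (show Γ(c.twist 1, U) from bt) (show Γ(c.twist 1, U) from c.sectRes (le_top : U ≤ ⊤) v)).trans ?_
    rw [← hcc, ← hv, QCoh.map_app]
    exact sub_self _
  obtain ⟨y, hy⟩ := QCoh.app_exact hS U _ hker
  have hφ : (ShortComplex.mk (kernel.ι φ) φ (kernel.condition φ)).ShortExact :=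
    { exact := ShortComplex.exact_of_f_is_kernel _ (kernelIsKernel φ) }
  haveI : (ShortComplex.mk (kernel.ι φ) φ (kernel.condition φ)).X₁.IsQuasicoherent :=
    (QCoh.isCoh_kernel φ hcS hcF).1
  obtain ⟨y', hy'⟩ := QCoh.app_surjective_of_isAffineOpen hφ hU y
  let π' := fun l : Fin 2 => Sigma.desc fun q : Fin 2 => if q = l then 𝟙 (Coh.structureModule X) else 0
  let r : Fin 2 → Γ(X, U) := fun l => (π' l).app U y'
  refine ⟨v, fun l => r l, ?_⟩
  have hgy : (show c.sect 1 U from g.app U y') = bt - c.sectRes (le_top : U ≤ ⊤) v := by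
    refine Eq.trans ?_ hy
    rw [← hy']
    exact congrArg (fun h => h.app U y') hφm.symm
  have hsum : (show c.sect 1 U from g.app U y') =
      ∑ l, r l • c.sectRes (le_top : U ≤ ⊤) (ev c 1 (a l)) := by
    have h : g = ∑ l : Fin 2, π' l ≫ c.hom (ev c 1 (a l)) := by
      refine Sigma.hom_ext _ _ fun q => ?_
      rw [Sigma.ι_desc, Preadditive.comp_sum, Finset.sum_eq_single q]
      · rw [← Category.assoc, Sigma.ι_desc, if_pos rfl, Category.id_comp]
      · intro l _ hl
        rw [← Category.assoc, Sigma.ι_desc, if_neg (Ne.symm hl), zero_comp]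
      · simp
    conv_lhs => rw [h]
    show (show c.sect 1 U from (∑ l : Fin 2, π' l ≫ c.hom (ev c 1 (a l))).app U y') = _
    rw [MulSec9.app_sum]
    refine Finset.sum_congr rfl fun l _ => ?_
    exact c.hom_app_apply (ev c 1 (a l)) U (r l)
  have e : (b - phi c t v - ∑ j, r j * phi c t (ev c 1 (a j))) • c.sectRes (le_top : U ≤ ⊤) (pw c t 1) = 0 := by
    rw [sub_smul, sub_smul, Finset.sum_smul, phi_spec, ← hgy.trans rfl, hsum, sub_eq_zero]
    refine Finset.sum_congr rfl fun j _ => ?_
    rw [mul_smul, phi_spec]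
  have hzero' : b - phi c t v - ∑ j, r j * phi c t (ev c 1 (a j)) = 0 :=
    c.smul_injective_of_le_locus (pw c t 1) (le_locus_pw c t 1) (e.trans (zero_smul _ _).symm)
  rw [sub_sub, sub_eq_zero] at hzero'
  exact hzero'

include k in
/-- **Generation of the square** of a module of degree at least three in genus one. -/
theorem square_generated [Infinite k] (hdim : topologicalKrullDim X = 1) (hg : Curv2.genus k X = 1)
    (hdeg : 3 ≤ Curv2.deg k X (c.twist 1) 1) (hc : c.IsAmp) (z : c.sect 2 ⊤) :
    z ∈ AddSubgroup.closure {y | ∃ (p : c.sect 1 ⊤) (q : c.sect 1 ⊤), y = c.mul p q} := by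
  classical
  haveI := Euler.isNoetherian_of_proper (X := X) k
  have hd := hdim.le
  have hL := c.isInvertible_twist 1
  have hhyp := SubCurve16.deg_hyp k hdim hL (by rw [hg]; push_cast; linarith)
  have hgg : Curv2.IsGloballyGenerated (c.twist 1) := SubCurve16.isGloballyGenerated k hdim hL hhyp
  have hH1 : Subsingleton (Coh.HH X (c.twist 1) 1) := by
    let G := genericPoints (X : Type u)
    haveI := Euler.epi_toSubscheme (SubCurve16.JJ G : X.IdealSheafData)
    haveI := SubCurve16.mono_toSubscheme_of_dense (I := (SubCurve16.JJ G : X.IdealSheafData))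
      (by rw [SubCurve16.support_JJ, genericPoints.closure])
    haveI : IsIso (ClSub.toSubscheme (SubCurve16.JJ G : X.IdealSheafData)) := isIso_of_mono_of_epi _
    let i : c.twist 1 ≅ SubCurve16.PP (c.twist 1) G := (OX.tensorUnitLeftIso (c.twist 1)).symm ≪≫
      (Euler.tF (c.twist 1)).mapIso (asIso (ClSub.toSubscheme (SubCurve16.JJ G)))
    haveI := SubCurve16.subsingleton_H1_PP k hdim hL hhyp (S₀ := G) subset_rfl
    exact (Euler.hhEquiv (A := k) i 1).toEquiv.subsingleton
  -- `s`, `t`
  obtain ⟨s, hs⟩ := exists_avoid k c hgg (Set.finite_singleton (genericPoint X))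
  have hsη : genericPoint X ∈ c.locus s := hs _ rfl
  haveI : Mono (c.hom s) :=
    Euler.mono_of_ne_zero Euler.isInvertible_structure hL (Euler.hom_ne_zero c ⟨_, hsη⟩)
  let D : Set X := (c.locus s : Set X)ᶜ
  have hDcl : ∀ x ∈ D, IsClosed ({x} : Set X) := fun x hx => NormGen9.isClosed_of_notMem (c := c) (u := s) hd hx
  have hDfin : D.Finite := Euler.finite_of_closed_points (c.locus s).isOpen.isClosed_compl hDcl
  obtain ⟨t, ht⟩ := exists_avoid k c hgg (hDfin.union (Set.finite_singleton (genericPoint X)))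
  have hcov : c.locus s ⊔ c.locus t = ⊤ := by
    refine eq_top_iff.2 fun x _ => ?_
    by_cases hx : x ∈ c.locus s
    · exact Or.inl hx
    · exact Or.inr (ht x (Or.inl hx))
  let U := c.locus t
  have hU : IsAffineOpen U := AffLocus9.isAffineOpen_locus c (X ↘ Spec (CommRingCat.of k)) hc t
  -- dimensions
  have hH : ∀ n, 1 ≤ n → Subsingleton (Coh.HH X (c.twist n) 1) := fun n hn =>
    NormGen9.subsingleton_H1 (c := c) (u := s) k hd hH1 hn
  have hfin : ∀ n, FiniteDimensional k (H c n) := fun n =>
    Euler.finiteDimensional_HH k (Euler.isCoh_of_isInvertible (c.isInvertible_twist n)) 0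
  have hcO : Coh.IsCoh (Coh.structureModule X) := Euler.isCoh_of_isInvertible Euler.isInvertible_structure
  haveI := hcO.1
  have heO := Euler.euler_eq_sub k hd (Coh.structureModule X)
  have hg' : Module.finrank k (Coh.HH X (Coh.structureModule X) 1) = 1 := hg
  have hdim' : ∀ n, 1 ≤ n → (Module.finrank k (H c n) : ℤ) =
      n * Curv2.deg k X (c.twist 1) 1 + (Module.finrank k (Coh.HH X (Coh.structureModule X) 0) : ℤ) - 1 := by
    intro n hn
    haveI := (Euler.isCoh_of_isInvertible (c.isInvertible_twist n)).1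
    haveI := hH n hn
    have e := Euler.euler_eq_sub k hd (c.twist n)
    rw [Module.finrank_zero_of_subsingleton (M := Coh.HH X (c.twist n) 1)] at e
    have e' := Euler.deg_twist k c hd n
    show (Module.finrank k (Coh.HH X (c.twist n) 0) : ℤ) = _
    simp only [Curv2.deg] at e' ⊢
    rw [heO, hg'] at e'
    rw [e] at e'
    rw [heO, hg']
    push_cast at e' ⊢
    linarith
  have h0 : Module.finrank k (Coh.HH X (Coh.structureModule X) 0) = 1 := by
    have a1 := CurveMult.finrank_H0_structure_dvd k (c.twist 1)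
    have a2 := CurveMult.finrank_H0_structure_dvd k (c.twist 2)
    have b1 := hdim' 1 le_rfl
    have b2 := hdim' 2 (by norm_num)
    obtain ⟨p, hp⟩ := a1
    obtain ⟨q, hq⟩ := a2
    have hp' : (Module.finrank k (H c 1) : ℤ) = Module.finrank k (Coh.HH X (Coh.structureModule X) 0) * (p : ℤ) := by
      exact_mod_cast hp
    have hq' : (Module.finrank k (H c 2) : ℤ) = Module.finrank k (Coh.HH X (Coh.structureModule X) 0) * (q : ℤ) := by
      exact_mod_cast hq
    rw [hp'] at b1
    rw [hq'] at b2
    push_cast at b1 b2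
    have hdvd : ((Module.finrank k (Coh.HH X (Coh.structureModule X) 0) : ℕ) : ℤ) ∣ 1 :=
      ⟨1 - 2 * (p : ℤ) + q, by linarith⟩
    exact Nat.dvd_one.1 (by exact_mod_cast hdvd)
  -- the ring
  let f : Γ(X, U) := phi c t s
  let A := Γ(X, U) ⧸ Ideal.span ({f} : Set Γ(X, U))
  letI : Algebra k Γ(X, U) := (constHom k U).toAlgebra
  let Ψ : ∀ n, H c n →ₗ[k] A := fun n =>
    { toFun := fun x => Ideal.Quotient.mk _ (phi c t (ev c n x))
      map_add' := fun x y => by rw [map_add, phi_add, map_add]
      map_smul' := fun a x => by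
        rw [ev_smul, phi_smul, map_mul, RingHom.id_apply, Algebra.smul_def]
        rfl }
  let ι : ∀ n, H c n →ₗ[k] H c (n + 1) := fun n => Cohom.hhMap k (CurveMult.T c s n) 0
  have hιapp : ∀ n (x : H c n), ev c (n + 1) (ι n x) = c.mul (ev c n x) s := fun n x => by
    rw [← mul_eq_mulFun]
    exact ev_hhMap k c _ x
  have hinj : ∀ n, Function.Injective (ι n) := fun n x y hxy => by
    have hS := NormGen9.seq_shortExact (c := c) (u := s) n
    refine (ev c n).injective (QCoh.app_injective hS ⊤ ?_)
    exact (ev_hhMap k c _ x).symm.trans ((congrArg (ev c (n + 1)) hxy).trans (ev_hhMap k c _ y))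
  have hker : ∀ n, LinearMap.ker (Ψ (n + 1)) = LinearMap.range (ι n) := fun n => by
    ext x
    rw [LinearMap.mem_ker, LinearMap.mem_range]
    constructor
    · intro hx
      obtain ⟨b, hb⟩ := Ideal.mem_span_singleton'.1 ((Ideal.Quotient.eq_zero_iff_mem).1 hx)
      obtain ⟨a, ha⟩ := exists_div c t s hcov (ev c (n + 1) x) b hb.symm k
      refine ⟨(ev c n).symm a, (ev c (n + 1)).injective ?_⟩
      rw [hιapp, AddEquiv.apply_symm_apply, ← mul_eq_mulFun, ha]
    · rintro ⟨a, rfl⟩
      show Ideal.Quotient.mk _ (phi c t (ev c (n + 1) (ι n a))) = 0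
      rw [hιapp, phi_mul]
      exact (Ideal.Quotient.eq_zero_iff_mem).2 (Ideal.mul_mem_left _ _ (Ideal.mem_span_singleton_self f))
  have hrank : ∀ n, Module.finrank k (LinearMap.range (Ψ (n + 1))) + Module.finrank k (H c n) =
      Module.finrank k (H c (n + 1)) := fun n => by
    haveI := hfin (n + 1)
    have h := LinearMap.finrank_range_add_finrank_ker (Ψ (n + 1))
    rw [hker, LinearMap.finrank_range_of_inj (hinj n)] at h
    exact h
  have hh0 : Module.finrank k (H c 0) = 1 := by
    obtain ⟨e⟩ := c.nonempty_twist_zero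
    exact (Euler.hhEquiv (A := k) e 0).finrank_eq.symm.trans h0
  obtain ⟨d, hdd⟩ : ∃ d : ℕ, (d : ℤ) = Curv2.deg k X (c.twist 1) 1 := ⟨_, Int.toNat_of_nonneg (by omega)⟩
  have hHn : ∀ n, 1 ≤ n → Module.finrank k (H c n) = n * d := fun n hn => by
    have h := hdim' n hn
    rw [h0, ← hdd] at h
    push_cast at h
    exact_mod_cast (by linarith : (Module.finrank k (H c n) : ℤ) = n * d)
  let W := LinearMap.range (Ψ 1)
  have hW : Module.finrank k W + 1 = d := by
    have h := hrank 0
    rw [hh0, hHn 1 le_rfl, one_mul] at h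
    exact h
  have hVn : ∀ n, Module.finrank k (LinearMap.range (Ψ (n + 2))) = d := fun n => by
    have h := hrank (n + 1)
    rw [hHn (n + 1) (by omega), hHn (n + 1 + 1) (by omega)] at h
    simp only [add_mul, one_mul] at h ⊢
    rw [show n + 2 = n + 1 + 1 from rfl]
    omega
  have hone : phi c t t = 1 := by
    have : t = pw c t 1 := c.sect_ext fun i => (pow_one _).symm
    conv_lhs => arg 3; rw [this]
    exact phi_pw c t 1
  have hmono : ∀ n, LinearMap.range (Ψ n) ≤ LinearMap.range (Ψ (n + 1)) := fun n => by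
    rintro _ ⟨x, rfl⟩
    refine ⟨(ev c (n + 1)).symm (c.mul (ev c n x) t), ?_⟩
    show Ideal.Quotient.mk _ _ = Ideal.Quotient.mk _ _
    rw [AddEquiv.apply_symm_apply, phi_mul, hone, mul_one]
  have hfinR : ∀ n, FiniteDimensional k (LinearMap.range (Ψ n)) := fun n => by
    haveI := hfin n
    infer_instance
  have hstab : ∀ n, LinearMap.range (Ψ (n + 2)) = LinearMap.range (Ψ 2) := fun n => by
    induction n with
    | zero => rfl
    | succ n ih =>
      rw [← ih]
      haveI := hfinR (n + 1 + 2)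
      exact (Submodule.eq_of_le_of_finrank_le (hmono (n + 2)) (by rw [hVn n]; exact (hVn (n + 1)).le)).symm
  haveI : QuasiSeparatedSpace X := c.quasiSeparatedSpace_of_isAmp hc
  have htop : LinearMap.range (Ψ 2) = ⊤ := by
    refine eq_top_iff.2 fun α _ => ?_
    obtain ⟨b, rfl⟩ := Ideal.Quotient.mk_surjective α
    obtain ⟨N, y, rfl⟩ := exists_phi_eq c t b
    have hy : Ideal.Quotient.mk (Ideal.span ({f} : Set Γ(X, U))) (phi c t y) ∈ LinearMap.range (Ψ N) :=
      ⟨(ev c N).symm y, by show Ideal.Quotient.mk _ _ = _; rw [AddEquiv.apply_symm_apply]⟩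
    match N, y, hy with
    | 0, y, hy => exact hmono 1 (hmono 0 hy)
    | 1, y, hy => exact hmono 1 hy
    | n + 2, y, hy => exact hstab n ▸ hy
  haveI : FiniteDimensional k A := by
    haveI := hfinR 2
    rw [htop] at this
    exact Module.Finite.equiv (Submodule.topEquiv (R := k) (M := A))
  have hA : Module.finrank k A = d := by
    have h := hVn 0
    rw [show LinearMap.range (Ψ (0 + 2)) = ⊤ from htop, finrank_top] at h
    exact h
  -- the generated part
  by_contra hzG
  let Gc : AddSubgroup (c.sect 2 ⊤) := AddSubgroup.closure {y | ∃ (p : c.sect 1 ⊤) (q : c.sect 1 ⊤), y = c.mul p q}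
  let G : Submodule k (H c 2) :=
    { carrier := {x | ev c 2 x ∈ Gc}
      zero_mem' := by
        show ev c 2 0 ∈ Gc
        rw [map_zero]
        exact zero_mem _
      add_mem' := fun {a b} ha hb => by
        show ev c 2 (a + b) ∈ Gc
        rw [map_add]
        exact add_mem ha hb
      smul_mem' := fun a x hx => by
        show ev c 2 (a • x) ∈ Gc
        rw [ev_smul]
        change ev c 2 x ∈ Gc at hx
        generalize ev c 2 x = w at hx
        induction hx using AddSubgroup.closure_induction with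
        | mem y hy =>
          obtain ⟨p, q, rfl⟩ := hy
          refine AddSubgroup.subset_closure ⟨(show Γ(X, ⊤) from Coh.toGlobal (X ↘ Spec (CommRingCat.of k)) a) • p, q,
            c.sect_ext fun i => ?_⟩
          simp only [Cocycle.smul_apply, Cocycle.mul_apply, mul_assoc]
        | zero => rw [smul_zero]; exact zero_mem _
        | add y y' _ _ h h' => rw [smul_add]; exact add_mem h h'
        | neg y _ h => rw [smul_neg]; exact neg_mem h }
  have hGker : LinearMap.ker (Ψ 2) ≤ G := fun x hx => by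
    obtain ⟨a, rfl⟩ := (hker 1).le hx
    exact AddSubgroup.subset_closure ⟨ev c 1 a, s, hιapp 1 a⟩
  have hGne : G ≠ ⊤ := fun h => hzG (by
    have hm : (ev c 2).symm z ∈ G := h ▸ Submodule.mem_top
    have hm' : ev c 2 ((ev c 2).symm z) ∈
        AddSubgroup.closure {y | ∃ (p : c.sect 1 ⊤) (q : c.sect 1 ⊤), y = c.mul p q} := hm
    rwa [AddEquiv.apply_symm_apply] at hm')
  have hWG : W ≤ G.map (Ψ 2) := by
    rintro _ ⟨x, rfl⟩
    refine ⟨(ev c 2).symm (c.mul (ev c 1 x) t), ?_, ?_⟩
    · show ev c 2 ((ev c 2).symm (c.mul (ev c 1 x) t)) ∈ Gc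
      rw [AddEquiv.apply_symm_apply]
      exact AddSubgroup.subset_closure ⟨_, _, rfl⟩
    · show Ideal.Quotient.mk _ _ = Ideal.Quotient.mk _ _
      rw [AddEquiv.apply_symm_apply, phi_mul, hone, mul_one]
  have hGlt : Module.finrank k (G.map (Ψ 2)) < d := by
    rw [← hA]
    refine Submodule.finrank_lt fun h => hGne ?_
    have h1 := congrArg (Submodule.comap (Ψ 2)) h
    rw [Submodule.comap_map_eq, sup_eq_left.2 hGker, Submodule.comap_top] at h1
    exact h1
  have hWeq : W = G.map (Ψ 2) := Submodule.eq_of_le_of_finrank_le hWG (by omega)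
  have hWW : ∀ a ∈ W, ∀ b ∈ W, a * b ∈ W := by
    rintro _ ⟨x, rfl⟩ _ ⟨y, rfl⟩
    rw [hWeq]
    refine ⟨(ev c 2).symm (c.mul (ev c 1 x) (ev c 1 y)), ?_, ?_⟩
    · show ev c 2 ((ev c 2).symm (c.mul (ev c 1 x) (ev c 1 y))) ∈ Gc
      rw [AddEquiv.apply_symm_apply]
      exact AddSubgroup.subset_closure ⟨_, _, rfl⟩
    · show Ideal.Quotient.mk _ _ = Ideal.Quotient.mk _ _ * Ideal.Quotient.mk _ _
      rw [AddEquiv.apply_symm_apply, phi_mul, map_mul]
  have hWne : W ≠ ⊤ := fun h => by
    have := congrArg (fun S : Submodule k A => Module.finrank k S) h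
    simp only [finrank_top, hA] at this
    omega
  obtain ⟨x, hx⟩ : ∃ x, x ∉ W := by
    by_contra h
    push Not at h
    exact hWne (Submodule.eq_top_iff'.2 h)
  have hdec : ∀ α : A, ∃ w ∈ W, ∃ r : k, α = w + r • x := by
    intro α
    have htopx : W ⊔ Submodule.span k {x} = ⊤ := by
      refine Submodule.eq_top_of_finrank_eq ?_
      have h1 : W < W ⊔ Submodule.span k {x} := lt_of_le_of_ne le_sup_left fun h =>
        hx (h.symm ▸ Submodule.mem_sup_right (Submodule.mem_span_singleton_self x))
      have h2 := Submodule.finrank_lt_finrank_of_lt h1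
      have h3 := Submodule.finrank_le (W ⊔ Submodule.span k {x})
      omega
    obtain ⟨w, hw, y, hy, rfl⟩ := Submodule.mem_sup.1 (htopx.ge (Submodule.mem_top (x := α)))
    obtain ⟨r, rfl⟩ := Submodule.mem_span_singleton.1 hy
    exact ⟨w, hw, r, rfl⟩
  let Lx : W →ₗ[k] A ⧸ W := W.mkQ.comp ((LinearMap.mulLeft k x).comp W.subtype)
  obtain ⟨p, hp, hp0⟩ : ∃ p : W, Lx p = 0 ∧ p ≠ 0 := by
    have h := LinearMap.finrank_range_add_finrank_ker Lx
    have h1 := Submodule.finrank_le (LinearMap.range Lx)
    have h2 := Submodule.finrank_quotient_add_finrank W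
    have hk : 0 < Module.finrank k (LinearMap.ker Lx) := by omega
    obtain ⟨p, hp, hne⟩ := Submodule.exists_mem_ne_zero_of_ne_bot (show LinearMap.ker Lx ≠ ⊥ from fun h => by
      rw [h, finrank_bot] at hk; omega)
    exact ⟨p, hp, hne⟩
  have hpA : ∀ α : A, α * (p : A) ∈ W := by
    intro α
    obtain ⟨w, hw, r, rfl⟩ := hdec α
    rw [add_mul, smul_mul_assoc]
    exact W.add_mem (hWW w hw p p.2) (W.smul_mem r ((Submodule.Quotient.mk_eq_zero W).1 hp))
  obtain ⟨u, hu⟩ := p.2
  have hs1 : Ψ 1 ((ev c 1).symm s) = 0 := by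
    show Ideal.Quotient.mk _ _ = 0
    rw [AddEquiv.apply_symm_apply]
    exact (Ideal.Quotient.eq_zero_iff_mem).2 (Ideal.mem_span_singleton_self f)
  have hs0 : (ev c 1).symm s ≠ 0 := fun h => by
    have h' : s = 0 := ((ev c 1).apply_symm_apply s).symm.trans ((congrArg _ h).trans (map_zero _))
    obtain ⟨i, hi⟩ := c.exists_mem (genericPoint X)
    have := (c.mem_locus_iff s hi).1 hsη
    rw [h', show ((0 : c.sect 1 ⊤).1 i) = 0 from rfl, Scheme.basicOpen_zero] at this
    exact this
  have hli : LinearIndependent k ![(ev c 1).symm s, u] := by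
    rw [LinearIndependent.pair_iff' hs0]
    intro r hr
    refine hp0 (Subtype.ext ?_)
    rw [← hu, ← hr, map_smul, hs1, smul_zero]
    rfl
  have hA' : ∀ α : A, α ∈ W := by
    intro α
    obtain ⟨b, rfl⟩ := Ideal.Quotient.mk_surjective α
    obtain ⟨v, r, hb⟩ := exists_lift k c hd hg.le h0 t hU ![(ev c 1).symm s, u] hli
      (by simpa using hcov) b
    rw [hb, map_add, map_sum, Fin.sum_univ_two]
    refine W.add_mem ⟨(ev c 1).symm v, by show Ideal.Quotient.mk _ _ = _; rw [AddEquiv.apply_symm_apply]⟩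
      (W.add_mem ?_ ?_)
    · rw [map_mul]
      have : Ideal.Quotient.mk (Ideal.span ({f} : Set Γ(X, U))) (phi c t (ev c 1 (![(ev c 1).symm s, u] 0))) = 0 := hs1
      rw [this, mul_zero]
      exact W.zero_mem
    · rw [map_mul]
      have : Ideal.Quotient.mk (Ideal.span ({f} : Set Γ(X, U))) (phi c t (ev c 1 (![(ev c 1).symm s, u] 1))) = (p : A) := hu
      rw [this]
      exact hpA _
  exact hx (hA' x)

end GrothLib.NormGenOne9
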