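import Groth.Agent.Lib.NormGen9.Regular
import Groth.Agent.Lib.Ample.Calculus
import Groth.Agent.Lib.Ample.CocTensor
import Groth.Agent.Lib.CurveMult.SectionRing

/-!
# Sections as functions on the locus of a section
-/

set_option autoImplicit false
set_option linter.all false
set_option backward.isDefEq.respectTransparency false
set_option maxHeartbeats 1000000

universe u

open CategoryTheory CategoryTheory.Limits AlgebraicGeometry TopologicalSpace Opposite
open GrothLib.Ample (Cocycle res)

noncomputable section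

namespace GrothLib.NormGenOne9

variable {X : Scheme.{u}} (c : Cocycle X) (t : c.sect 1 ⊤)

/-- The powers of `t`. -/
def pw (n : ℕ) : c.sect n ⊤ := c.sectCast (one_mul n) (c.sectPow t n)

theorem pw_apply (n : ℕ) (i : c.ι) : (pw c t n).1 i = t.1 i ^ n := rfl

theorem le_locus_pw (n : ℕ) : c.locus t ≤ c.locus (pw c t n) := by
  show _ ≤ c.locus (c.sectCast (one_mul n) (c.sectPow t n))
  rw [c.locus_sectCast]
  exact c.le_locus_sectPow t n

theorem exists_phi {n : ℕ} (z : c.sect n ⊤) :
    ∃! r : Γ(X, c.locus t), r • c.sectRes (le_top : c.locus t ≤ ⊤) (pw c t n) = c.sectRes le_top z := by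
  have hb := c.bijective_hom_app (pw c t n) (le_locus_pw c t n)
  obtain ⟨r, hr⟩ := hb.2 (c.sectRes (le_top : c.locus t ≤ ⊤) z)
  refine ⟨r, (c.hom_app_apply _ _ r).symm.trans hr, fun r' hr' => hb.1 ?_⟩
  exact ((c.hom_app_apply _ _ r').trans hr').trans hr.symm

/-- A section of the `n`-th power as a function on the locus of `t`. -/
def phi {n : ℕ} (z : c.sect n ⊤) : Γ(X, c.locus t) := (exists_phi c t z).exists.choose

theorem phi_spec {n : ℕ} (z : c.sect n ⊤) :
    phi c t z • c.sectRes (le_top : c.locus t ≤ ⊤) (pw c t n) = c.sectRes le_top z :=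
  (exists_phi c t z).exists.choose_spec

theorem phi_eq {n : ℕ} {z : c.sect n ⊤} {r : Γ(X, c.locus t)}
    (h : r • c.sectRes (le_top : c.locus t ≤ ⊤) (pw c t n) = c.sectRes le_top z) : phi c t z = r :=
  (exists_phi c t z).unique (phi_spec c t z) h

theorem phi_add {n : ℕ} (a b : c.sect n ⊤) : phi c t (a + b) = phi c t a + phi c t b :=
  phi_eq c t (by rw [add_smul, phi_spec, phi_spec, map_add])

theorem phi_smul {n : ℕ} (r : Γ(X, ⊤)) (a : c.sect n ⊤) :
    phi c t (r • a) = res (le_top : c.locus t ≤ ⊤) r * phi c t a :=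
  phi_eq c t (by rw [mul_smul, phi_spec, c.sectRes_smul])

theorem phi_pw (n : ℕ) : phi c t (pw c t n) = 1 := phi_eq c t (one_smul _ _)

theorem phi_mul {n m : ℕ} (a : c.sect n ⊤) (b : c.sect m ⊤) :
    phi c t (c.mul a b) = phi c t a * phi c t b := by
  refine phi_eq c t (c.sect_ext fun i => ?_)
  have ha := congrArg (fun z : c.sect n (c.locus t) => z.1 i) (phi_spec c t a)
  have hb := congrArg (fun z : c.sect m (c.locus t) => z.1 i) (phi_spec c t b)
  simp only [Cocycle.smul_apply, Cocycle.sectRes_apply, pw_apply, Cocycle.mul_apply, map_mul, map_pow] at ha hb ⊢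
  rw [pow_add, ← ha, ← hb]
  ring

theorem mul_eq_mulFun {n : ℕ} (s : c.sect 1 ⊤) (z : c.sect n ⊤) :
    (show c.sect (n + 1) ⊤ from (CurveMult.T c s n).app ⊤ z) = c.mul z s := by
  refine (CurveMult.T_app c s n z).trans (c.sect_ext fun i => ?_)
  show z.1 i * res _ (s.1 i) = z.1 i * s.1 i
  rw [GrothLib.Ample.res_self]

theorem phi_T {n : ℕ} (s : c.sect 1 ⊤) (z : c.sect n ⊤) :
    phi c t (show c.sect (n + 1) ⊤ from (CurveMult.T c s n).app ⊤ z) = phi c t z * phi c t s := by
  rw [mul_eq_mulFun, phi_mul]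

/-- Every function on the locus is a section of a high power. -/
theorem exists_phi_eq [CompactSpace X] [QuasiSeparatedSpace X] (b : Γ(X, c.locus t)) :
    ∃ (N : ℕ) (z : c.sect N ⊤), phi c t z = b := by
  obtain ⟨m, z, hz⟩ := c.exists_extend t b
  refine ⟨m, c.sectCast (one_mul m) z, phi_eq c t ?_⟩
  refine c.sect_ext fun i => ?_
  exact (congrArg (fun x : c.sect (1 * m) (c.locus t) => x.1 i) hz).symm

/-- A section whose function is divisible by that of `s` is divisible by `s`. -/
theorem exists_div {n : ℕ} (s : c.sect 1 ⊤) [Mono (c.hom s)] (hcov : c.locus s ⊔ c.locus t = ⊤)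
    (z : c.sect (n + 1) ⊤) (b : Γ(X, c.locus t)) (hz : phi c t z = b * phi c t s)
    (k : Type u) [Field k] [X.Over (Spec (CommRingCat.of k))] :
    ∃ a : c.sect n ⊤, (show c.sect (n + 1) ⊤ from (CurveMult.T c s n).app ⊤ a) = z := by
  let q := cokernel.π (CurveMult.T c s n)
  have hS := NormGen9.seq_shortExact (c := c) (u := s) n
  have hU : q.app (c.locus t) (show Γ(c.twist (n + 1), c.locus t) from c.sectRes le_top z) = 0 := by
    have e : (show c.sect (n + 1) (c.locus t) from
        (CurveMult.T c s n).app (c.locus t) (b • c.sectRes (le_top : c.locus t ≤ ⊤) (pw c t n))) =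
        c.sectRes le_top z := by
      rw [← phi_spec c t z, hz]
      refine (CurveMult.T_app c s n _).trans (c.sect_ext fun i => ?_)
      have hs := congrArg (fun w : c.sect 1 (c.locus t) => w.1 i) (phi_spec c t s)
      simp only [Cocycle.smul_apply, Cocycle.sectRes_apply, pw_apply, map_pow, pow_one] at hs
      show (res _ b * res _ (t.1 i ^ n)) * res _ (s.1 i) = res _ (b * phi c t s) * res _ (t.1 i ^ (n + 1))
      rw [map_mul, map_pow, map_pow, pow_succ, ← hs]
      ring
    rw [← e]
    exact congrArg (fun φ : c.twist n ⟶ cokernel (CurveMult.T c s n) => φ.app (c.locus t)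
      (show Γ(c.twist n, c.locus t) from b • c.sectRes (le_top : c.locus t ≤ ⊤) (pw c t n)))
      (cokernel.condition (CurveMult.T c s n))
  have h0 : q.app ⊤ (show Γ(c.twist (n + 1), ⊤) from z) = 0 := by
    refine QCoh.section_eq_zero_of_germ _ _ fun y _ => ?_
    by_cases hy : y ∈ c.locus t
    · rw [← TopCat.Presheaf.germ_res_apply _ (homOfLE (le_top : c.locus t ≤ ⊤)) y hy]
      have e2 := PresheafOfModules.naturality_apply q.val (homOfLE (le_top : c.locus t ≤ ⊤)).op
        (show Γ(c.twist (n + 1), ⊤) from z)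
      erw [← e2]
      refine (congrArg _ hU).trans (map_zero _)
    · have hys : y ∈ c.locus s := by
        have : y ∈ c.locus s ⊔ c.locus t := hcov ▸ trivial
        exact this.resolve_right hy
      refine @Subsingleton.elim _ (QCoh.stalk_subsingleton_of_notMem
        (QCoh.notMem_support_cokernel_of_surjective (CurveMult.T c s n) ?_)) _ _
      exact (Euler.stalkLin_bijective_of_app_bijective _ hys fun W hW => CurveMult.T_app_bijective c s n hW).2
  have hm : (Cohom.hhMap k q 0) ((ProjCoh.H0top _).symm (show Γ(c.twist (n + 1), ⊤) from z)) = 0 := by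
    refine (ProjCoh.H0top _).injective ?_
    rw [map_zero, Cohom.hhMap_apply]
    refine (ProjCoh.H0top_map _ _).trans ?_
    erw [AddEquiv.apply_symm_apply]
    exact h0
  obtain ⟨x, hx⟩ := (Cohom.exact₂ (A := k) hS 0 _).1 hm
  refine ⟨ProjCoh.H0top (c.twist n) x, ?_⟩
  have h := congrArg (ProjCoh.H0top (c.twist (n + 1))) hx
  rw [AddEquiv.apply_symm_apply] at h
  exact (ProjCoh.H0top_map ((QCoh.toAbFun _).map (CurveMult.T c s n)) x).symm.trans h

end GrothLib.NormGenOne9
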