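import Groth.Agent.Lib.GorGenusOne16.Main
import Groth.Agent.Lib.SubCurve16.Gen
import Groth.Agent.Lib.Euler.AmpleIff
import Groth.Agent.Lib.NormGen9.Curve

/-!
# From products of cocycle sections to pure tensors
-/

set_option autoImplicit false
set_option linter.all false
set_option backward.isDefEq.respectTransparency false
set_option maxHeartbeats 1000000

universe u

open CategoryTheory CategoryTheory.Limits AlgebraicGeometry TopologicalSpace Opposite
open GrothLib.Ample (Cocycle res)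

noncomputable section

namespace GrothLib.NormGenOne9

variable {X : Scheme.{u}}

/-- Products of sections give generation of the square by pure tensors. -/
theorem span_one (c : Cocycle X) {L : X.Modules} (e : L ≅ c.twist 1)
    (h : ∀ z : c.sect 2 ⊤, z ∈ AddSubgroup.closure {y | ∃ (p : c.sect 1 ⊤) (q : c.sect 1 ⊤), y = c.mul p q}) :
    Submodule.span (X.ringCatSheaf.obj.obj (Opposite.op ⊤))
      (Set.range (fun p : (CohB1.tensorPow L 1).val.obj (Opposite.op ⊤) × L.val.obj (Opposite.op ⊤) =>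
        SecTwist.tmul (CohB1.tensorPow L 1) L ⊤ p.1 p.2)) = ⊤ := by
  obtain ⟨θ⟩ := c.nonempty_tensorPow_iso e 1
  let T : CohB1.tensorMod (CohB1.tensorPow L 1) L ⟶ c.twist 2 :=
    KoszTw.tensorMap θ.hom e.hom ≫ NormGen9.mulHom c 1 1
  haveI := NormGen9.isIso_mulHom c 1 1
  haveI : IsIso (KoszTw.tensorMap θ.hom e.hom) :=
    ⟨⟨KoszTw.tensorMap θ.inv e.inv,
      by rw [← KoszTw.tensorMap_comp, θ.hom_inv_id, e.hom_inv_id, KoszTw.tensorMap_id],
      by rw [← KoszTw.tensorMap_comp, θ.inv_hom_id, e.inv_hom_id, KoszTw.tensorMap_id]⟩⟩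
  haveI : IsIso T := IsIso.comp_isIso
  have hb := ConcreteCategory.bijective_of_isIso (T.app ⊤)
  let S := Submodule.span (X.ringCatSheaf.obj.obj (Opposite.op ⊤))
      (Set.range (fun p : (CohB1.tensorPow L 1).val.obj (Opposite.op ⊤) × L.val.obj (Opposite.op ⊤) =>
        SecTwist.tmul (CohB1.tensorPow L 1) L ⊤ p.1 p.2))
  refine Submodule.eq_top_iff'.2 fun w => ?_
  suffices H : ∀ z : c.sect 2 ⊤, ∀ w : (CohB1.tensorMod (CohB1.tensorPow L 1) L).val.obj (op ⊤),
      (show c.sect 2 ⊤ from T.app ⊤ w) = z → w ∈ S from H _ w rfl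
  intro z
  induction h z using AddSubgroup.closure_induction with
  | mem y hy =>
    intro w hw
    obtain ⟨p, q, rfl⟩ := hy
    obtain ⟨a, ha⟩ : ∃ a, (show c.sect 1 ⊤ from θ.hom.app ⊤ a) = p :=
      (ConcreteCategory.bijective_of_isIso (θ.hom.app ⊤)).2 p
    obtain ⟨b, hb'⟩ : ∃ b, (show c.sect 1 ⊤ from e.hom.app ⊤ b) = q :=
      (ConcreteCategory.bijective_of_isIso (e.hom.app ⊤)).2 q
    have hT : (show c.sect 2 ⊤ from T.app ⊤ (SecTwist.tmul (CohB1.tensorPow L 1) L ⊤ a b)) = c.mul p q := by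
      show (NormGen9.mulHom c 1 1).app ⊤ ((KoszTw.tensorMap θ.hom e.hom).app ⊤ _) = _
      rw [KoszTw.tensorMap_tmul θ.hom e.hom ⊤ a b, ← ha, ← hb']
      exact NormGen9.mulHom_tmul c 1 1 ⊤ _ _
    rw [hb.1 (hw.trans hT.symm)]
    exact Submodule.subset_span ⟨(a, b), rfl⟩
  | zero =>
    intro w hw
    rw [hb.1 (hw.trans (map_zero (T.app ⊤).hom).symm)]
    exact S.zero_mem
  | add x y _ _ hx hy =>
    intro w hw
    obtain ⟨wx, hwx⟩ := hb.2 x
    obtain ⟨wy, hwy⟩ := hb.2 y
    have : (show c.sect 2 ⊤ from T.app ⊤ (wx + wy)) = x + y :=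
      (map_add (T.app ⊤).hom wx wy).trans (congrArg₂ (fun a b : c.sect 2 ⊤ => a + b) hwx hwy)
    rw [hb.1 (hw.trans this.symm)]
    exact S.add_mem (hx wx hwx) (hy wy hwy)
  | neg x _ hx =>
    intro w hw
    obtain ⟨wx, hwx⟩ := hb.2 x
    have : (show c.sect 2 ⊤ from T.app ⊤ (-wx)) = -x :=
      (map_neg (T.app ⊤).hom wx).trans (congrArg (fun a : c.sect 2 ⊤ => -a) hwx)
    rw [hb.1 (hw.trans this.symm)]
    exact S.neg_mem (hx wx hwx)

/-- An invertible module of large degree has no first cohomology. -/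
theorem subsingleton_H1 (k : Type u) [Field k] [X.Over (Spec (CommRingCat.of k))] [IsIntegral X]
    [IsProper (X ↘ Spec (CommRingCat.of k))] (hdim : topologicalKrullDim X = 1) {L : X.Modules}
    (hL : PicF.IsInvertible L) (hdeg : 2 * (Curv2.genus k X : ℤ) ≤ Curv2.deg k X L 1) :
    Subsingleton (Coh.HH X L 1) := by
  have hhyp := SubCurve16.deg_hyp k hdim hL hdeg
  let G := genericPoints (X : Type u)
  haveI := Euler.epi_toSubscheme (SubCurve16.JJ G : X.IdealSheafData)
  haveI := SubCurve16.mono_toSubscheme_of_dense (I := (SubCurve16.JJ G : X.IdealSheafData))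
    (by rw [SubCurve16.support_JJ, genericPoints.closure])
  haveI : IsIso (ClSub.toSubscheme (SubCurve16.JJ G : X.IdealSheafData)) := isIso_of_mono_of_epi _
  let i : L ≅ SubCurve16.PP L G := (OX.tensorUnitLeftIso L).symm ≪≫
    (Euler.tF L).mapIso (asIso (ClSub.toSubscheme (SubCurve16.JJ G)))
  haveI := SubCurve16.subsingleton_H1_PP k hdim hL hhyp (S₀ := G) subset_rfl
  exact (Euler.hhEquiv (A := k) i 1).toEquiv.subsingleton

end GrothLib.NormGenOne9
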